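import Cfsg.Agent.Lib.Fusion.PrimeResidual.Invariance
import Cfsg.Agent.Lib.Fusion.PPowerNormal
import Cfsg.Agent.Lib.Fusion.SubCent.Basic

/-!
Invariance of subsystems of invariant subsystems.
-/

set_option autoImplicit false
set_option linter.unusedSectionVars false
set_option linter.style.haveILetI false

namespace Cfsg.FusionSystem

universe u
variable {Ω : Type u} [Group Ω] {S T W W' : Subgroup Ω} {F : FusionSystem S} {G : FusionSystem W}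
  {G' : FusionSystem W'} {p : ℕ} {P Q P' Q' : Subgroup Ω} {a f h : Ω → Ω}

/-- Reading a map between images of a map as an isomorphism onto the image of the target. -/
theorem isIso_of_image {W₁ : Subgroup Ω} {G₁ : FusionSystem W₁} (hf : G₁.IsIso P Q f) {χ : P' →* Ω}
    (hχ : χ ∈ G'.Hom P') (hP' : ∀ y, y ∈ P' ↔ ∃ x ∈ P, h x = y) (hQ' : ∀ y, y ∈ Q' ↔ ∃ x ∈ Q, h x = y)
    (hval : ∀ x ∈ P, ∀ hm : h x ∈ P', χ ⟨h x, hm⟩ = h (f x)) :
    ∃ f', G'.IsIso P' Q' f' ∧ ∀ x ∈ P, f' (h x) = h (f x) := by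
  have hiso := isIso_funOf hχ
  have hv : ∀ x ∈ P, funOf χ (h x) = h (f x) := fun x hx => by
    have hm : h x ∈ P' := (hP' _).mpr ⟨x, hx, rfl⟩
    exact (funOf_apply χ ⟨_, hm⟩).symm.trans (hval x hx hm)
  have e : χ.range = Q' := by
    ext y
    rw [hQ']
    constructor
    · intro hy
      obtain ⟨z, hz, rfl⟩ := hiso.surj hy
      obtain ⟨x, hx, rfl⟩ := (hP' z).mp hz
      exact ⟨f x, hf.mem hx, (hv x hx).symm⟩
    · rintro ⟨z, hz, rfl⟩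
      obtain ⟨x, hx, rfl⟩ := hf.surj hz
      rw [← hv x hx]
      exact hiso.mem ((hP' _).mpr ⟨x, hx, rfl⟩)
  exact ⟨funOf χ, e ▸ hiso, hv⟩

/-- The transport condition for isomorphisms gives strong invariance. -/
theorem strongInvariance_of_iso
    (H : ∀ (V V' P Q : Subgroup Ω) (h f : Ω → Ω), F.IsIso V V' h → V ≤ W → G.IsIso P Q f → P ≤ V → Q ≤ V →
      ∀ P' Q' : Subgroup Ω, (∀ y, y ∈ P' ↔ ∃ x ∈ P, h x = y) → (∀ y, y ∈ Q' ↔ ∃ x ∈ Q, h x = y) →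
        ∃ f', G.IsIso P' Q' f' ∧ ∀ x ∈ P, f' (h x) = h (f x)) :
    G.StrongInvariance F := by
  intro P Q hPQ hQT φ hφ hφQ ψ hψ
  have hi := isIso_funOf hφ
  have hj := isIso_funOf hψ
  have hR : φ.range ≤ Q := by rintro _ ⟨x, rfl⟩; exact hφQ x
  obtain ⟨R', -, -, hR'⟩ := hj.restrict hR
  obtain ⟨f', ⟨χ, hχ, -, hχe⟩, hfe⟩ := H Q ψ.range P φ.range (funOf ψ) (funOf φ) hj hQT hi hPQ hR
    ((P.subgroupOf Q).map ψ) R' (fun y => by
      constructor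
      · rintro ⟨x, hx, rfl⟩
        exact ⟨x, hx, (funOf_apply ψ x).symm⟩
      · rintro ⟨x, hx, rfl⟩
        exact ⟨⟨x, hPQ hx⟩, hx, funOf_apply ψ ⟨x, hPQ hx⟩⟩) hR'
  refine ⟨χ, hχ, fun x hx => ?_⟩
  rw [hχe]
  show f' (ψ (Subgroup.inclusion hPQ x)) = _
  rw [funOf_apply ψ (Subgroup.inclusion hPQ x), funOf_apply ψ]
  show f' (funOf ψ x) = funOf ψ (φ x)
  rw [hfe x x.2, funOf_apply φ x]

/-- An invariant subsystem of an invariant subsystem, stable under the automorphisms of the larger group, is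
invariant. -/
theorem IsInvariantIn.trans [Finite S] [Fact p.Prime] (hF : F.IsSaturated p) (hS : IsPGroup p S)
    (hG : G.IsInvariantIn F) (hG' : G'.IsInvariantIn G)
    (hW : ∀ a, F.IsIso W W a → ∀ x ∈ W', a x ∈ W')
    (hst : ∀ (a : Ω → Ω) (P Q : Subgroup Ω) (f : Ω → Ω), F.IsIso W W a → G'.IsIso P Q f →
      ∀ P' Q' : Subgroup Ω, (∀ y, y ∈ P' ↔ ∃ x ∈ P, a x = y) → (∀ y, y ∈ Q' ↔ ∃ x ∈ Q, a x = y) →
        ∃ f', G'.IsIso P' Q' f' ∧ ∀ x ∈ P, f' (a x) = a (f x)) :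
    G'.IsInvariantIn F := by
  have hWW : W' ≤ W := hG'.2.1.1
  have hclosed : F.StronglyClosed W' := by
    refine ⟨hWW.trans hG.2.1.1, fun R hR φ hφ x => ?_⟩
    obtain ⟨a, Q₀, e, ha, he, hfe, -⟩ := hG.frattini_iso (isIso_funOf hφ) (hR.trans hWW)
    rw [funOf_apply φ x, hfe x x.2]
    exact hW a ha _ (hG'.2.1.iso_mem he x.2 (hR x.2))
  refine StrongInvariance.isInvariantIn hF hS hclosed (fun R φ hφ => hG.1 R (hG'.1 R hφ))
    (strongInvariance_of_iso ?_)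
  intro V V' P Q h f hh hV hf hP hQ P' Q' hP' hQ'
  obtain ⟨a, V₀, e, ha, he, hhe, -⟩ := hG.frattini_iso hh (hV.trans hWW)
  obtain ⟨P₁, -, -, hP₁⟩ := he.restrict hP
  obtain ⟨Q₁, -, -, hQ₁⟩ := he.restrict hQ
  obtain ⟨f₁, hf₁, hf₁e⟩ := hG'.iso_transport he hV hf hP hQ hP₁ hQ₁
  obtain ⟨f', hf', hf'e⟩ := hst a P₁ Q₁ f₁ ha hf₁ P' Q' (fun y => by
    rw [hP']
    exact ⟨fun ⟨x, hx, hxy⟩ => ⟨e x, (hP₁ _).mpr ⟨x, hx, rfl⟩, (hhe x (hP hx)).symm.trans hxy⟩,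
      fun ⟨z, hz, hzy⟩ => by
        obtain ⟨x, hx, rfl⟩ := (hP₁ z).mp hz
        exact ⟨x, hx, (hhe x (hP hx)).trans hzy⟩⟩) (fun y => by
    rw [hQ']
    exact ⟨fun ⟨x, hx, hxy⟩ => ⟨e x, (hQ₁ _).mpr ⟨x, hx, rfl⟩, (hhe x (hQ hx)).symm.trans hxy⟩,
      fun ⟨z, hz, hzy⟩ => by
        obtain ⟨x, hx, rfl⟩ := (hQ₁ z).mp hz
        exact ⟨x, hx, (hhe x (hQ hx)).trans hzy⟩⟩)
  refine ⟨f', hf', fun x hx => ?_⟩
  rw [hhe x (hP hx), hf'e _ ((hP₁ _).mpr ⟨x, hx, rfl⟩), hf₁e x hx, hhe _ (hQ (hf.mem hx))]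

/-- A saturated subsystem of `p`-power index is stable under an isomorphism stabilising the system and
the group it is over. -/
theorem pPowerIndex_transport_of [Finite S] [Fact p.Prime] (hS : IsPGroup p S)
    (hWS : W ≤ S) (hG' : G'.IsSaturated p) (hidx : G'.HasPPowerIndexIn G p) (hW' : W' ≤ W)
    (ha : F.IsIso W W a)
    (hst : ∀ (P Q : Subgroup Ω) (f : Ω → Ω), G.IsIso P Q f → ∀ P' Q' : Subgroup Ω,
      (∀ y, y ∈ P' ↔ ∃ x ∈ P, a x = y) → (∀ y, y ∈ Q' ↔ ∃ x ∈ Q, a x = y) →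
        ∃ f', G.IsIso P' Q' f' ∧ ∀ x ∈ P, f' (a x) = a (f x))
    (haW : ∀ x ∈ W', a x ∈ W') (hf : G'.IsIso P Q f)
    (hP' : ∀ y, y ∈ P' ↔ ∃ x ∈ P, a x = y) (hQ' : ∀ y, y ∈ Q' ↔ ∃ x ∈ Q, a x = y) :
    ∃ f', G'.IsIso P' Q' f' ∧ ∀ x ∈ P, f' (a x) = a (f x) := by
  have hW'S : W' ≤ S := hW'.trans hWS
  haveI := finite_of_le hWS
  haveI := finite_of_le hW'S
  obtain ⟨α, hα, hαr, hαe⟩ := SubCent.isIso_self ha hW' haW
  obtain ⟨E', hE'⟩ := exists_isFactorSystem_bot G' α (F.injective_of_mem hα) hαr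
  have hE's := hE'.isSaturated (hS.to_le hW'S) hG'
  have hsub : E'.IsSubsystemOf G := by
    intro R φ hφ
    obtain ⟨φ', hφ', he⟩ := hE'.down hφ
    have hR := E'.source_le hφ
    have hi := (isIso_funOf hφ').mono hidx.1
    have hle : preimageAlong α R ≤ W' := preimageAlong_le
    have hle' : φ'.range ≤ W' := G'.range_le hφ'
    obtain ⟨R₂, -, -, hR₂⟩ := ha.restrict (hle'.trans hW')
    obtain ⟨f', hf', hf'e⟩ := hst _ _ _ hi R R₂ (fun y => by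
        constructor
        · intro hy
          obtain ⟨x, hx, hxm, hxe⟩ := hE'.exists_preimage hR ⟨y, hy⟩
          exact ⟨x, hxm, (hαe ⟨x, hx⟩).symm.trans hxe⟩
        · rintro ⟨x, hx, rfl⟩
          obtain ⟨hxW, hm⟩ := mem_preimageAlong.mp hx
          rwa [hαe ⟨x, hxW⟩] at hm) hR₂
    refine mem_hom_of_isIso hf' fun y => ?_
    obtain ⟨x, hx, hxm, hxe⟩ := hE'.exists_preimage hR y
    have hm : α ⟨x, hx⟩ ∈ R := hxe ▸ y.2
    have h1 : φ y = α ⟨φ' ⟨x, hxm⟩, G'.apply_mem hφ' _⟩ :=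
      (congrArg φ (Subtype.ext hxe.symm)).trans (he ⟨x, hxm⟩ hx hm)
    rw [h1, hαe, ← hxe, hαe]
    show a (φ' ⟨x, hxm⟩) = f' (a x)
    rw [hf'e x hxm, funOf_apply φ' ⟨x, hxm⟩]
  have hle : E'.IsSubsystemOf G' :=
    hE's.le_pPowerIndex ‹Finite W'› (hS.to_le hWS) hsub hW' le_rfl G' hidx
  obtain ⟨φ, hφ, -, hφe⟩ := id hf
  obtain ⟨χ, hχ, hχe⟩ := hE'.up hφ
  have hPW := hf.le_left
  have heq : imageAlong α P = P' := by
    ext y
    rw [hP']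
    constructor
    · rintro ⟨x, hx, rfl⟩
      exact ⟨x, hx, (hαe x).symm⟩
    · rintro ⟨x, hx, rfl⟩
      exact ⟨⟨x, hPW hx⟩, hx, hαe _⟩
  subst heq
  refine isIso_of_image hf (hle _ hχ) hP' hQ' fun x hx hm => ?_
  have hm' : α ⟨x, hPW hx⟩ ∈ imageAlong α P := ⟨⟨x, hPW hx⟩, hx, rfl⟩
  refine ((congrArg χ (Subtype.ext (hαe ⟨x, hPW hx⟩).symm)).trans (hχe ⟨x, hx⟩ (hPW hx) hm')).trans ?_
  rw [hαe]
  exact congrArg a (hφe ⟨x, hx⟩)

/-- A saturated subsystem of `p`-power index in an invariant subsystem is stable under the automorphisms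
preserving the group it is over. -/
theorem IsInvariantIn.pPowerIndex_transport [Finite S] [Fact p.Prime] (hS : IsPGroup p S)
    (hG : G.IsInvariantIn F) (hG' : G'.IsSaturated p) (hidx : G'.HasPPowerIndexIn G p) (hW' : W' ≤ W)
    (ha : F.IsIso W W a) (haW : ∀ x ∈ W', a x ∈ W') (hf : G'.IsIso P Q f)
    (hP' : ∀ y, y ∈ P' ↔ ∃ x ∈ P, a x = y) (hQ' : ∀ y, y ∈ Q' ↔ ∃ x ∈ Q, a x = y) :
    ∃ f', G'.IsIso P' Q' f' ∧ ∀ x ∈ P, f' (a x) = a (f x) :=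
  pPowerIndex_transport_of hS hG.2.1.1 hG' hidx hW' ha
    (fun _ _ _ hf _ _ hP' hQ' => hG.iso_transport ha le_rfl hf hf.le_left hf.le_right hP' hQ') haW hf hP' hQ'

end Cfsg.FusionSystem
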