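import Cfsg.Agent.Lib.Fusion.ResidualReduction.Compose
import Cfsg.Agent.Lib.Fusion.ResidualLimit
import Cfsg.Agent.Lib.Fusion.ResidualSeries.Up
import Cfsg.Agent.Lib.Fusion.IndexPower.Main
import Cfsg.Agent.Lib.Fusion.Transfer.Tate

/-!
Existence of residual limits, and their invariance under invariant subsystems of index prime to `p`.
-/

set_option autoImplicit false
set_option linter.unusedSectionVars false
set_option linter.style.haveILetI false

namespace Cfsg.FusionSystem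

universe u
variable {Ω : Type u} [Group Ω] {S T W U V : Subgroup Ω} {p : ℕ} [Fact p.Prime]

theorem IsResidualLimitOf.isSubsystemOf {L : FusionSystem V} {G : FusionSystem W} {q : ℕ}
    (h : L.IsResidualLimitOf G q) : L.IsSubsystemOf G := by
  induction h with
  | stable F q _ _ => exact fun P φ hφ => hφ
  | step F q D D' hD hD' _ ih => exact fun P φ hφ => hD.2.1 P (hD'.2.1.1 P (ih P hφ))

/-- An invariant subsystem inside a weakly normal one over the same group has index prime to `p` in it. -/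
theorem IsWeaklyNormalIn.hasPrimeToPIndexIn_of_invariant [Finite S] (hS : IsPGroup p S) {F : FusionSystem S}
    {E D : FusionSystem T} (hE : E.IsWeaklyNormalIn F p) (hD : D.IsInvariantIn F) (hDE : D.IsSubsystemOf E) :
    D.HasPrimeToPIndexIn E p := by
  refine ⟨hDE, fun P hP => ?_⟩
  rw [Subgroup.map_le_iff_le_comap]
  refine (Subgroup.closure_le _).mpr fun a ha => ?_
  obtain ⟨k, hk⟩ := ha
  obtain ⟨f, hf, hfe⟩ := isPAut_of_aut hP a.2 ⟨k, by rw [Subgroup.orderOf_coe, hk]⟩
  obtain ⟨φ, hφ, -, hφe⟩ := hE.pAut_mem hS hD hf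
  exact D.mem_autGroup_of_map hφ fun x => (hfe x).trans (hφe x).symm

/-- The `p'`-residual subsystem is its own `p'`-residual subsystem. -/
theorem IsPPrimeResidual.idem [Finite W] (hW : IsPGroup p W) {G R : FusionSystem W} (hG : G.IsSaturated p)
    (hR : G.IsPPrimeResidual p R) : R.IsPPrimeResidual p R := by
  set R₂ := PrimeResidual.residual hW hR.1 with hR₂
  have hres : R.IsPPrimeResidual p R₂ := PrimeResidual.residual_isPPrimeResidual
  have hn := Cfsg.Agent.S5141.result p hW G hG R (hR.isNormalIn_self hG hW).1 R₂ hres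
  have hidx := IsWeaklyNormalIn.hasPrimeToPIndexIn_of_invariant hW (F := G) ⟨hG, hG, isInvariantIn_self G⟩
    hn.1.2.2 fun P φ hφ => hR.2.1.1 P (hres.2.1.1 P hφ)
  have heq : R₂ = R := hom_ext fun P =>
    Set.Subset.antisymm (hres.2.1.1 P) (hR.2.2 R₂ hres.1 hidx P)
  exact heq ▸ hres

/-- Every saturated system has a residual limit. -/
theorem exists_residualLimit (W : Subgroup Ω) [Finite W] (hW : IsPGroup p W) (G : FusionSystem W)
    (hG : G.IsSaturated p) : ∃ (V : Subgroup Ω) (L : FusionSystem V), L.IsResidualLimitOf G p := by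
  suffices H : ∀ (n : ℕ) (W : Subgroup Ω) (G : FusionSystem W), Finite W → IsPGroup p W → G.IsSaturated p →
      Nat.card W = n → ∃ (V : Subgroup Ω) (L : FusionSystem V), L.IsResidualLimitOf G p from
    H _ W G ‹_› hW hG rfl
  intro n
  induction n using Nat.strong_induction_on with
  | _ n ih =>
  intro W G _ hW hG hn
  have hle : G.hyperfocalSubgroup p ≤ W := hyperfocalSubgroup_le
  haveI := finite_of_le hle
  have hH := hW.to_le hle
  obtain ⟨D, hD, -⟩ := hG.existsUnique_pPowerIndex hW hle le_rfl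
  set R := PrimeResidual.residual hH hD.1 with hRdef
  have hR : D.IsPPrimeResidual p R := PrimeResidual.residual_isPPrimeResidual
  suffices h : ∃ (V : Subgroup Ω) (L : FusionSystem V), L.IsResidualLimitOf R p by
    obtain ⟨V, L, hL⟩ := h
    exact ⟨V, L, .step G p D R hD hR hL⟩
  rcases hle.lt_or_eq with hlt | heq
  · exact ih _ (hn ▸ card_lt_of_lt hlt) _ R ‹_› hH hR.1 rfl
  have hle₂ : R.hyperfocalSubgroup p ≤ G.hyperfocalSubgroup p := hyperfocalSubgroup_le
  rcases hle₂.lt_or_eq with hlt | heq₂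
  · haveI := finite_of_le hle₂
    have hH₂ := hH.to_le hle₂
    obtain ⟨D₂, hD₂, -⟩ := hR.1.existsUnique_pPowerIndex hH hle₂ le_rfl
    set R₂ := PrimeResidual.residual hH₂ hD₂.1 with hR₂def
    have hR₂ : D₂.IsPPrimeResidual p R₂ := PrimeResidual.residual_isPPrimeResidual
    obtain ⟨V, L, hL⟩ := ih _ (hn ▸ (card_lt_of_lt hlt).trans_le (Subgroup.card_le_of_le hle)) _ R₂ ‹_› hH₂
      hR₂.1 rfl
    exact ⟨V, L, .step R p D₂ R₂ hD₂ hR₂ hL⟩
  · exact ⟨_, R, .stable R p heq₂ (hR.idem hH hD.1)⟩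

/-- A system equal to its `p`-residual has the residual limit of its `p'`-residual. -/
theorem limit_eq_of_hyp_top [Finite W] (hW : IsPGroup p W) {G R : FusionSystem W} (hG : G.IsSaturated p)
    (hh : G.hyperfocalSubgroup p = W) (hR : G.IsPPrimeResidual p R) {M : FusionSystem U}
    (hM : M.IsResidualLimitOf G p) {L : FusionSystem V} (hL : L.IsResidualLimitOf R p) :
    ∀ P, M.Hom P = L.Hom P := by
  cases hM with
  | stable _ _ _ hp =>
    have hRG : ∀ P, R.Hom P = G.Hom P := pPrimeResidual_unique rfl (fun _ => rfl) hR hp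
    exact residualLimit_unique (.stable G p hh hp) L R hL rfl hRG ‹_› ‹_› hW hG
  | step _ _ D D' hD hD' hlim =>
    have hDG : ∀ P, D.Hom P = G.Hom P :=
      pResidual_unique hW hh hyperfocalSubgroup_le hD.1 hG hD.2 (hasPPowerIndexIn_self G)
    have hD'R : ∀ P, D'.Hom P = R.Hom P := pPrimeResidual_unique hh hDG hD' hR
    haveI : Finite ↥(G.hyperfocalSubgroup p) := finite_of_le hyperfocalSubgroup_le
    exact residualLimit_unique hlim L R hL hh.symm (fun P => (hD'R P).symm) ‹_› ‹_›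
      (hW.to_le hyperfocalSubgroup_le) hD'.1

/-- An invariant subsystem of index prime to `p` has the same residual limit. -/
theorem residualLimit_eq_of_primeIndex [Finite W] (hW : IsPGroup p W) {G D : FusionSystem W}
    (hG : G.IsSaturated p) (hD : D.IsSaturated p) (hinv : D.IsInvariantIn G)
    (hidx : D.HasPrimeToPIndexIn G p) {M : FusionSystem U} (hM : M.IsResidualLimitOf G p)
    {L : FusionSystem V} (hL : L.IsResidualLimitOf D p) : ∀ P, M.Hom P = L.Hom P := by
  suffices H : ∀ (n : ℕ) (W : Subgroup Ω) (G D : FusionSystem W), Finite W → IsPGroup p W → G.IsSaturated p →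
      D.IsSaturated p → D.IsInvariantIn G → D.HasPrimeToPIndexIn G p → Nat.card W = n →
      ∀ {U V : Subgroup Ω} (M : FusionSystem U) (L : FusionSystem V), M.IsResidualLimitOf G p →
        L.IsResidualLimitOf D p → ∀ P, M.Hom P = L.Hom P from
    H _ W G D ‹_› hW hG hD hinv hidx rfl M L hM hL
  clear! W M L
  intro n
  induction n using Nat.strong_induction_on with
  | _ n ih =>
  -- the case of a proper hyperfocal subgroup
  have hlow : ∀ (W : Subgroup Ω) (G D : FusionSystem W), Finite W → IsPGroup p W → G.IsSaturated p →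
      D.IsSaturated p → D.IsInvariantIn G → Nat.card W = n → G.hyperfocalSubgroup p < W →
      ∀ {U V : Subgroup Ω} (M : FusionSystem U) (L : FusionSystem V), M.IsResidualLimitOf G p →
        L.IsResidualLimitOf D p → ∀ P, M.Hom P = L.Hom P := by
    intro W G D _ hW hG hD hinv hn hlt U V M L hM hL P
    have hle : G.hyperfocalSubgroup p ≤ W := hyperfocalSubgroup_le
    haveI := finite_of_le hle
    have hH := hW.to_le hle
    obtain ⟨G₀, hG₀, -⟩ := hG.existsUnique_pPowerIndex hW hle le_rfl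
    obtain ⟨D₁, hD₁, -⟩ := hD.existsUnique_pPowerIndex hW hle (hyperfocalSubgroup_mono hinv.1)
    have hG₀n := hG.isNormalIn_of_pPowerIndex hW hG₀.1 hle normal_hyperfocal hG₀.2
    have hD₁n := hD.isNormalIn_of_pPowerIndex hW hD₁.1 hle normal_hyperfocal hD₁.2
    have hHc := hG₀n.1.2.2.2.1
    have hstab : ∀ a, G.IsIso W W a → ∀ x ∈ G.hyperfocalSubgroup p, a x ∈ G.hyperfocalSubgroup p :=
      fun a ha x hx => hHc.iso_mem ha (hle hx) hx
    have hD₁G : D₁.IsInvariantIn G := hinv.trans hG hW hD₁n.1.2.2 hstab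
      fun a P Q f ha hf P' Q' hP' hQ' =>
        hinv.pPowerIndex_transport hW hD₁.1 hD₁.2 hle ha (hstab a ha) hf hP' hQ'
    have hsub : D₁.IsSubsystemOf G₀ :=
      hD₁.1.le_pPowerIndex ‹_› hW hD₁G.1 hle le_rfl G₀ hG₀.2
    have hst := hD₁G.strongInvariance
    have hD₁G₀ : D₁.IsInvariantIn G₀ := StrongInvariance.isInvariantIn hG₀.1 hH
      ⟨le_rfl, fun R _ φ hφ x => G₀.apply_mem hφ x⟩ hsub
      fun P Q hPQ hQ φ hφ hφQ ψ hψ => hst P Q hPQ hQ φ hφ hφQ ψ (hG₀.2.1 Q hψ)
    obtain ⟨V₀, M₀, hM₀⟩ := exists_residualLimit _ hH G₀ hG₀.1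
    obtain ⟨V₁, L₁, hL₁⟩ := exists_residualLimit _ hH D₁ hD₁.1
    rw [residualLimit_eq_of_pPowerIndex hW hG hG₀.1 hHc hG₀.2 hM hM₀ P,
      residualLimit_eq_of_pPowerIndex hW hD hD₁.1 hD₁n.1.2.2.2.1 hD₁.2 hL hL₁ P]
    exact ih _ (hn ▸ card_lt_of_lt hlt) _ G₀ D₁ ‹_› hH hG₀.1 hD₁.1 hD₁G₀
      (hG₀n.1.hasPrimeToPIndexIn_of_invariant hW hD₁G hsub) rfl M₀ L₁ hM₀ hL₁ P
  intro W G D _ hW hG hD hinv hidx hn U V M L hM hL P
  rcases (hyperfocalSubgroup_le (F := G) (p := p)).lt_or_eq with hlt | heq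
  · exact hlow W G D ‹_› hW hG hD hinv hn hlt M L hM hL P
  set R := PrimeResidual.residual hW hG with hRdef
  have hR : G.IsPPrimeResidual p R := PrimeResidual.residual_isPPrimeResidual
  have hRn := hR.isNormalIn_self hG hW
  have hRD : R.IsSubsystemOf D := hR.2.2 D hD hidx
  obtain ⟨V₀, L₀, hL₀⟩ := exists_residualLimit W hW R hR.1
  rw [limit_eq_of_hyp_top hW hG heq hR hM hL₀ P]
  symm
  rcases (hyperfocalSubgroup_le (F := D) (p := p)).lt_or_eq with hlt | heq₂
  · have hst := hRn.1.2.2.strongInvariance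
    have hRDi : R.IsInvariantIn D := StrongInvariance.isInvariantIn hD hW
      ⟨le_rfl, fun Q _ φ hφ x => D.apply_mem hφ x⟩ hRD
      fun P Q hPQ hQ φ hφ hφQ ψ hψ => hst P Q hPQ hQ φ hφ hφQ ψ (hinv.1 Q hψ)
    exact hlow W D R ‹_› hW hD hR.1 hRDi hn hlt L L₀ hL hL₀ P
  · set R₂ := PrimeResidual.residual hW hD with hR₂def
    have hR₂ : D.IsPPrimeResidual p R₂ := PrimeResidual.residual_isPPrimeResidual
    have hn₂ := Cfsg.Agent.S5141.result p hW G hG D ⟨hD, hG, hinv⟩ R₂ hR₂
    have hidx₂ := IsWeaklyNormalIn.hasPrimeToPIndexIn_of_invariant hW (F := G) ⟨hG, hG, isInvariantIn_self G⟩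
      hn₂.1.2.2 fun P φ hφ => hinv.1 P (hR₂.2.1.1 P hφ)
    have hidxD : R.HasPrimeToPIndexIn D p := by
      refine ⟨hRD, fun P hP => ?_⟩
      rw [Subgroup.map_le_iff_le_comap]
      refine (Subgroup.closure_le _).mpr fun a ha => ?_
      obtain ⟨k, hk⟩ := ha
      have haG : (a : MulAut P) ∈ G.autGroup P := IsSubsystemOf.isIso_autGroup hinv.1 hP a.2
      exact hR.2.1.2 P hP ⟨⟨a, haG⟩, Subgroup.subset_closure
        ⟨k, (Subgroup.orderOf_coe ⟨(a : MulAut P), haG⟩).symm.trans ((Subgroup.orderOf_coe a).trans hk)⟩, rfl⟩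
    have heqR : R₂ = R := hom_ext fun P =>
      Set.Subset.antisymm (hR₂.2.2 R hR.1 hidxD P) (hR.2.2 R₂ hR₂.1 hidx₂ P)
    exact limit_eq_of_hyp_top hW hD heq₂ (heqR ▸ hR₂) hL hL₀ P

end Cfsg.FusionSystem
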