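import Cfsg.Agent.Lib.Fusion.ResidualReduction.Step
import Cfsg.Agent.Lib.Fusion.SubCent.Centralizer
import Cfsg.Agent.Lib.Fusion.Quotient
import Cfsg.Agent.Lib.Fusion.PrimeResidual.CentralizerLift

/-!
A normal subsystem with `p`-solvable automiser quotient carries the residual limit.
-/

set_option autoImplicit false
set_option linter.unusedSectionVars false
set_option linter.style.haveILetI false

namespace Cfsg.FusionSystem.ResidualReduction

universe u
variable {Ω : Type u} [Group Ω] {S T : Subgroup Ω} [Finite S] {p : ℕ} [Fact p.Prime]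
  {F : FusionSystem S} {E : FusionSystem T}

/-- Reduction to a normal subsystem over `T C_S(T)` with the automiser of `E` on `T`. -/
theorem exists_reduction (hS : IsPGroup p S) (hF : F.IsSaturated p) (hE : E.IsNormalIn F p)
    [hn : ((E.autGroup T).subgroupOf (F.autGroup T)).Normal]
    (hsolv : IsPSolvable p (↥(F.autGroup T) ⧸ (E.autGroup T).subgroupOf (F.autGroup T))) :
    ∃ F₀ : FusionSystem (T ⊔ centralizerIn S T), F₀.IsNormalIn F p ∧ E.IsSubsystemOf F₀ ∧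
      F₀.autGroup T = E.autGroup T ∧
      ∀ {U : Subgroup Ω} (Finf : FusionSystem U), Finf.IsResidualLimitOf F p →
        Finf.IsSubsystemOf F₀ ∧ ∀ {V : Subgroup Ω} (L : FusionSystem V), L.IsResidualLimitOf F₀ p →
          ∀ P : Subgroup Ω, L.Hom P = Finf.Hom P := by
  have hTF : F.StronglyClosed T := hE.1.2.2.2.1
  have hTS := hTF.1
  have hEF := hE.1.2.2.1
  haveI := finite_of_le hTS
  haveI := finite_autGroup (F := F) hTS
  haveI : Finite (MulAut T) := finite_mulAut_of_le hTS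
  suffices H : ∀ (n : ℕ) (W : Subgroup Ω) (G : FusionSystem W), Nat.card (G.autGroup T) = n →
      T ⊔ centralizerIn S T ≤ W → G.IsWeaklyNormalIn F p → E.IsSubsystemOf G →
      (∀ {U V : Subgroup Ω} (Finf : FusionSystem U) (L : FusionSystem V), Finf.IsResidualLimitOf F p →
        L.IsResidualLimitOf G p → ∀ P, L.Hom P = Finf.Hom P) →
      ∃ F₀ : FusionSystem (T ⊔ centralizerIn S T), F₀.IsNormalIn F p ∧ E.IsSubsystemOf F₀ ∧
        F₀.autGroup T = E.autGroup T ∧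
        ∀ {U V : Subgroup Ω} (Finf : FusionSystem U) (L : FusionSystem V), Finf.IsResidualLimitOf F p →
          L.IsResidualLimitOf F₀ p → ∀ P, L.Hom P = Finf.Hom P by
    obtain ⟨F₀, hn₀, hE₀, hA₀, hlim⟩ := H _ S F rfl (sup_le hTS centralizerIn_le)
      ⟨hF, hF, isInvariantIn_self F⟩ hEF fun Finf L hFi hL P =>
        (residualLimit_unique hFi L F hL rfl (fun _ => rfl) ‹_› ‹_› hS hF P).symm
    refine ⟨F₀, hn₀, hE₀, hA₀, fun Finf hFi => ⟨?_, fun L hL P => hlim Finf L hFi hL P⟩⟩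
    haveI := finite_of_le hn₀.1.2.2.2.1.1
    obtain ⟨V, L, hL⟩ := exists_residualLimit _ (hS.to_le hn₀.1.2.2.2.1.1) F₀ hn₀.1.1
    intro P φ hφ
    exact hL.isSubsystemOf P ((hlim Finf L hFi hL P).symm ▸ hφ)
  intro n
  induction n using Nat.strong_induction_on with
  | _ n ih =>
  intro W G hcard hUW hG hEG hlim
  obtain ⟨hGs, -, hGi⟩ := id hG
  have hWS : W ≤ S := hGi.2.1.1
  have hTW : T ≤ W := le_sup_left.trans hUW
  haveI := finite_of_le hWS
  have hW : IsPGroup p W := hS.to_le hWS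
  have hK₀ : E.autGroup T ≤ G.autGroup T := fun α hα => hEG.isIso_autGroup le_rfl hα
  have hKA : G.autGroup T ≤ F.autGroup T := fun α hα => hGi.1.isIso_autGroup hTW hα
  haveI := finite_autGroup (F := G) hTW
  by_cases heq : E.autGroup T = G.autGroup T
  · -- nothing is left to remove
    have hWU : W = T ⊔ centralizerIn S T := by
      refine le_antisymm (fun w hw => ?_) hUW
      obtain ⟨-, Sy, hSy⟩ := hE.1.1.isFullyAutomized_of_isFullyNormalized (hS.to_le hTS)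
        (isFullyNormalized_self (F := E))
      have hWn : W ≤ Subgroup.normalizer (T : Set Ω) := hWS.trans hTF.le_normalizer
      have hle : autInducedBy W T ≤ E.autGroup T := heq ▸ autInducedBy_le_autGroup hTW
      haveI := finite_autGroup (F := E) (le_refl T)
      have hP : IsPGroup p ↥((autInducedBy W T).subgroupOf (E.autGroup T)) :=
        (isPGroup_autInducedBy hW).comap_of_injective _ (E.autGroup T).subtype_injective
      have hmax := Sy.3 hP (by
        rw [hSy]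
        exact Subgroup.comap_mono (autInducedBy_mono hTW))
      have hw' : T.normalizerMonoidHom ⟨w, hWn hw⟩ ∈ autInducedBy W T :=
        mem_autInducedBy_iff.mpr ⟨w, hw, hWn hw, fun _ => rfl⟩
      have hw'' : (⟨_, hle hw'⟩ : E.autGroup T) ∈ (Sy : Subgroup (E.autGroup T)) := hmax.le hw'
      rw [hSy] at hw''
      obtain ⟨t, ht, -, hte⟩ := mem_autInducedBy_iff.mp (Subgroup.mem_subgroupOf.mp hw'')
      have hc : t⁻¹ * w ∈ centralizerIn S T := by
        refine ⟨S.mul_mem (S.inv_mem (hTS ht)) (hWS hw), Subgroup.mem_centralizer_iff.mpr fun x hx => ?_⟩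
        have h1 : w * x * w⁻¹ = t * x * t⁻¹ := hte ⟨x, hx⟩
        calc x * (t⁻¹ * w) = t⁻¹ * (t * x * t⁻¹) * w := by group
          _ = t⁻¹ * (w * x * w⁻¹) * w := by rw [h1]
          _ = t⁻¹ * w * x := by group
      have h2 := Subgroup.mul_mem_sup ht hc
      rwa [mul_inv_cancel_left] at h2
    subst hWU
    refine ⟨G, ⟨hG, fun α hα => ?_⟩, hEG, heq.symm, hlim⟩
    obtain ⟨a, ha, hae⟩ := isIso_of_aut le_rfl hα
    have hCU : centralizerIn S (T ⊔ centralizerIn S T) ≤ T ⊔ centralizerIn S T := fun c hc =>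
      Subgroup.mem_sup_right ⟨hc.1, Subgroup.centralizer_le (SetLike.coe_subset_coe.mpr le_sup_left) hc.2⟩
    have haF : F.IsIso (T ⊔ centralizerIn S T ⊔ centralizerIn S (T ⊔ centralizerIn S T))
        (T ⊔ centralizerIn S T ⊔ centralizerIn S (T ⊔ centralizerIn S T)) a := by
      rw [sup_eq_left.mpr hCU]
      exact ha.mono hGi.1
    obtain ⟨β, hβ, hβe⟩ := haF.toAut
    refine ⟨β, hβ, fun x => ?_, fun c hc => ?_⟩
    · rw [hβe, hae]
      rfl
    · rw [hβe]
      have hcU : (c : Ω) ∈ T ⊔ centralizerIn S T := hCU hc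
      refine ⟨Subgroup.mul_mem _ (Subgroup.inv_mem _ hcU) (ha.mem hcU), Subgroup.mul_mem _ (Subgroup.inv_mem _ hc.2) ?_⟩
      exact ha.mem_centralizer le_rfl (fun y => ⟨ha.surj, fun ⟨x, hx, he⟩ => he ▸ ha.mem hx⟩) hcU hc.2
  · have hKn : ((G.autGroup T).subgroupOf (F.autGroup T)).Normal := by
      refine ⟨fun x hx g => ?_⟩
      obtain ⟨b, hb, hbe⟩ := isIso_of_aut hTW (P := T) (α := (x : MulAut T)) hx
      obtain ⟨a, ha, hae⟩ := isIso_of_aut hTS g.2
      have hTm : ∀ y, y ∈ T ↔ ∃ x ∈ T, a x = y := fun y => ⟨ha.surj, fun ⟨z, hz, he⟩ => he ▸ ha.mem hz⟩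
      obtain ⟨b', hb', hb'e⟩ := hGi.iso_transport ha hTW hb le_rfl le_rfl hTm hTm
      obtain ⟨β, hβ, hβe⟩ := hb'.toAut
      have e : ((g * x * g⁻¹ : F.autGroup T) : MulAut T) = β := MulEquiv.ext fun t => Subtype.ext (by
        show (((g : MulAut T) ((x : MulAut T) ((g : MulAut T)⁻¹ t)) : T) : Ω) = _
        rw [hβe, hae, hbe, ← hb'e _ ((g : MulAut T)⁻¹ t).2, ← hae, MulAut.apply_inv_self])
      show ((g * x * g⁻¹ : F.autGroup T) : MulAut T) ∈ G.autGroup T
      exact e ▸ hβ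
    obtain ⟨K', hle, hlt, hconj, hidx⟩ := exists_normal_step (p := p) hKA hK₀ hKn hsolv heq
    have hn' : Nat.card K' < n :=
      hcard ▸ card_lt_of_lt hlt
    obtain ⟨W', G', hU', hG', hEG', hA', hlim'⟩ : ∃ (W' : Subgroup Ω) (G' : FusionSystem W'),
        T ⊔ centralizerIn S T ≤ W' ∧ G'.IsWeaklyNormalIn F p ∧ E.IsSubsystemOf G' ∧ G'.autGroup T = K' ∧
        ∀ {U V : Subgroup Ω} (M : FusionSystem U) (L : FusionSystem V), M.IsResidualLimitOf G p →
          L.IsResidualLimitOf G' p → ∀ P, M.Hom P = L.Hom P := by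
      rcases hidx with ⟨m, hm⟩ | hc
      · exact pPower_step hS hE hG hUW hEG hle hlt.le hconj hm
      · obtain ⟨G', h1, h2, h3, h4⟩ := coprime_step hS hE hG hTW hEG hle hlt.le hconj hc
        exact ⟨W, G', hUW, h1, h2, h3, h4⟩
    refine ih (Nat.card (G'.autGroup T)) (hA'.symm ▸ hn') W' G' rfl hU' hG' hEG' fun Finf L hFi hL P => ?_
    obtain ⟨V₀, M, hM⟩ := exists_residualLimit W hW G hGs
    rw [← hlim Finf M hFi hM P]
    exact (hlim' M L hM hL P).symm

/-- If the centralizer of `E` lies in `T`, the reduction has the residual limit of `E`. -/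
theorem residualLimit_eq (hS : IsPGroup p S) (hF : F.IsSaturated p) (hE : E.IsNormalIn F p)
    (hCE : ∀ Y : Subgroup Ω, Y ≤ centralizerIn S T →
      (∀ C : FusionSystem (centralizerIn S Y), F.IsCentralizerSystem Y C → E.IsSubsystemOf C) → Y ≤ T)
    [hn : ((E.autGroup T).subgroupOf (F.autGroup T)).Normal]
    (hsolv : IsPSolvable p (↥(F.autGroup T) ⧸ (E.autGroup T).subgroupOf (F.autGroup T))) {U V : Subgroup Ω}
    {Finf : FusionSystem U} (hFinf : Finf.IsResidualLimitOf F p) {Einf : FusionSystem V}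
    (hEinf : Einf.IsResidualLimitOf E p) : ∀ P : Subgroup Ω, Finf.Hom P = Einf.Hom P := by
  obtain ⟨F₀, hF₀, hE₀, hA₀, hlim⟩ := exists_reduction hS hF hE hsolv
  have hTF : F.StronglyClosed T := hE.1.2.2.2.1
  have hTS := hTF.1
  have hWS : (T ⊔ centralizerIn S T) ≤ S := hF₀.1.2.2.2.1.1
  haveI := finite_of_le hWS
  have hW : IsPGroup p ↥(T ⊔ centralizerIn S T) := hS.to_le hWS
  have hTW : T ≤ (T ⊔ centralizerIn S T) := le_sup_left
  have hw := weaklyNormal_of_le hS hE.1 hF₀.1 hTW hE₀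
  have hT₀ : F₀.StronglyClosed T := hw.2.2.2.1
  -- the centralizer of `E` lies in `T`
  have hfoc : Subgroup.closure (SubCent.focalSet F T) ≤ T := by
    refine (SubCent.le_centSub ((Subgroup.closure_le _).mpr SubCent.focalSet_subset)
      (SubCent.hom_le_focal hS hE)).trans (hCE _ SubCent.centSub_le fun C hC P φ hφ => ?_)
    rw [hC P]
    exact SubCent.hom_le_centSub hS hE P hφ
  -- the maps of `F₀` are trivial modulo `T`
  have hmod : ∀ (P : Subgroup Ω) (φ : P →* Ω), φ ∈ F₀.Hom P → ∀ x : P, (x : Ω)⁻¹ * φ x ∈ T := by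
    intro P φ hφ x
    obtain ⟨ψ, hψ, hψe⟩ := hF₀.1.1.exists_congr_mod hW hT₀ hφ
    have hxW : (x : Ω) ∈ (T ⊔ centralizerIn S T) := F₀.source_le hφ x.2
    have hψi := isIso_funOf hψ
    suffices h : (x : Ω)⁻¹ * funOf ψ x ∈ T by
      have h2 := T.mul_mem h (hψe x)
      rwa [funOf_apply ψ ⟨x, Subgroup.mem_sup_left x.2⟩, mul_assoc, mul_inv_cancel_left] at h2
    obtain ⟨T₂, hψT, -, -⟩ := hψi.restrict (le_sup_right : T ≤ P ⊔ T)
    rw [hψT.eq_of_le hTW (hT₀.iso_le hψT le_rfl) le_rfl] at hψT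
    obtain ⟨α, hα, hαe⟩ := hψT.toAut
    obtain ⟨β, hβ, hβT, hβC⟩ := hE.2 α (hA₀ ▸ hα)
    obtain ⟨b, hb, hbe⟩ := isIso_of_aut (sup_le hTS centralizerIn_le) hβ
    obtain ⟨b₁, hb₁, hl, hr⟩ := hb.symm
    have hR : ψ.range ≤ (T ⊔ centralizerIn S T) := F₀.range_le hψ
    obtain ⟨R₂, hb₁R, -, -⟩ := hb₁.restrict hR
    have hh : F.IsIso (P ⊔ T) R₂ (fun y => b₁ (funOf ψ y)) := (hψi.mono hF₀.1.2.2.1).comp hb₁R
    have hψb : ∀ y ∈ T, funOf ψ y = b y := fun y hy => by
      rw [← hαe ⟨y, hy⟩, ← hβT ⟨y, hy⟩, hbe]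
      rfl
    have hhT : ∀ y ∈ T, b₁ (funOf ψ y) = y := fun y hy => by rw [hψb y hy, hl y (hTW hy)]
    obtain ⟨t, ht, c, hc, hxe⟩ := (mem_sup_centralizerIn (le_refl T)).mp hxW
    have hcW : c ∈ T ⊔ centralizerIn S T := Subgroup.mem_sup_right hc
    have htPT : t ∈ P ⊔ T := Subgroup.mem_sup_right ht
    have hcPT : c ∈ P ⊔ T := by
      rw [show c = t⁻¹ * x by rw [hxe]; group]
      exact mul_mem (InvMemClass.inv_mem htPT) (Subgroup.mem_sup_left x.2)
    have hu : c⁻¹ * b₁ (funOf ψ c) ∈ T := hfoc (Subgroup.subset_closure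
      ⟨P ⊔ T, R₂, fun y => b₁ (funOf ψ y), c, hh, le_sup_right, hhT, hcPT, hc, rfl⟩)
    have h1 : funOf ψ c = b c * b (c⁻¹ * b₁ (funOf ψ c)) := by
      rw [← hb.apply_mul hcW (hTW hu), mul_inv_cancel_left, hr _ (hR (hψi.mem hcPT))]
    have h2 : c⁻¹ * funOf ψ c ∈ T := by
      rw [h1, ← mul_assoc, ← hψb _ hu]
      refine T.mul_mem ?_ (hψT.mem hu)
      have h3 := (hβC ⟨c, hcW⟩ hc).1
      rwa [hbe] at h3
    have h3 : t⁻¹ * funOf ψ t ∈ T := T.mul_mem (T.inv_mem ht) (hψT.mem ht)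
    rw [hxe, hψi.apply_mul htPT hcPT]
    have h4 := Subgroup.mem_centralizer_iff.mp hc.2 _ h3
    rw [show (t * c)⁻¹ * (funOf ψ t * funOf ψ c) =
      c⁻¹ * ((t⁻¹ * funOf ψ t) * c) * (c⁻¹ * funOf ψ c) by group, h4, inv_mul_cancel_left]
    exact T.mul_mem h3 h2
  have hidx : E.HasPPowerIndexIn F₀ p := by
    refine ⟨hE₀, hyperfocalSubgroup_le_iff.mpr fun P hP α hα _ x => ?_, fun P hP => ?_⟩
    · obtain ⟨φ, hφ, -, he⟩ := F₀.exists_map_of_mem_autGroup hP hα
      rw [← he]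
      exact hmod P φ hφ x
    · rintro _ ⟨α, -, rfl⟩
      obtain ⟨φ, hφ, -, he⟩ := F₀.exists_map_of_mem_autGroup (hP.trans hTW) α.2
      obtain ⟨γ, hγ, φ₀, hφ₀, hφe⟩ := hw.2.2.2.2.2 P hP φ hφ
      rw [hA₀] at hγ
      obtain ⟨χ, hχ, hχe⟩ := E.exists_comp hφ₀ ((E.mem_autGroup_iff le_rfl).mp hγ) fun y => E.apply_mem hφ₀ y
      refine E.mem_autGroup_of_map hχ fun y => ?_
      rw [hχe]
      exact (he y).symm.trans (hφe y _)
  obtain ⟨V₀, L, hL⟩ := exists_residualLimit (T ⊔ centralizerIn S T) hW F₀ hF₀.1.1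
  intro P
  rw [← (hlim Finf hFinf).2 L hL P]
  exact residualLimit_eq_of_pPowerIndex hW hF₀.1.1 hE.1.1 hT₀ hidx hL hEinf P

end Cfsg.FusionSystem.ResidualReduction
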