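import Cfsg.Agent.Lib.Fusion.ResidualReduction.Limit
import Cfsg.Agent.Lib.Fusion.PrimeIndexChi.Main
import Cfsg.Agent.Lib.Fusion.HyperfocalAction

/-!
Shrinking the automiser of `T` in a weakly normal subsystem containing a normal subsystem over `T`.
-/

set_option autoImplicit false
set_option linter.unusedSectionVars false
set_option linter.style.haveILetI false

namespace Cfsg.FusionSystem.ResidualReduction

open PrimeIndexChi

universe u
variable {Ω : Type u} [Group Ω] {S T W : Subgroup Ω} {p : ℕ} [Fact p.Prime]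

/-- A normal series gives a proper step of `p`-power or coprime index. -/
theorem exists_normal_step {G : Type*} [Group G] [Finite G] {A K K₀ : Subgroup G} (hKA : K ≤ A) (hK₀ : K₀ ≤ K)
    [hn₀ : (K₀.subgroupOf A).Normal] (hKn : (K.subgroupOf A).Normal)
    (hsolv : IsPSolvable p (↥A ⧸ K₀.subgroupOf A)) (hne : K₀ ≠ K) :
    ∃ K' : Subgroup G, K₀ ≤ K' ∧ K' < K ∧ (∀ γ ∈ A, ∀ x ∈ K', γ * x * γ⁻¹ ∈ K') ∧
      ((∃ m, K'.relIndex K = p ^ m) ∨ (K'.relIndex K).Coprime p) := by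
  obtain ⟨n, H, h0, h1, hm, hn, hidx⟩ := hsolv
  set N := K₀.subgroupOf A with hN
  set KA := K.subgroupOf A with hKA'
  let π := QuotientGroup.mk' N
  have hNK : N ≤ KA := fun x hx => hK₀ hx
  have hK₀map : N.map A.subtype = K₀ := Subgroup.map_subgroupOf_eq_of_le (hK₀.trans hKA)
  have hKmap : KA.map A.subtype = K := Subgroup.map_subgroupOf_eq_of_le hKA
  have key : ∃ j : Fin n, (H j.castSucc).comap π ⊓ KA ≠ KA ∧ (H j.succ).comap π ⊓ KA = KA := by
    by_contra hc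
    have hall : ∀ i, (H i).comap π ⊓ KA = KA := by
      intro i
      induction i using Fin.reverseInduction with
      | last => rw [h1, Subgroup.comap_top, top_inf_eq]
      | cast j ih => exact not_not.mp fun h => hc ⟨j, h, ih⟩
    have h := hall 0
    rw [h0, MonoidHom.comap_bot, QuotientGroup.ker_mk', inf_eq_left.mpr hNK] at h
    exact hne (by rw [← hK₀map, h, hKmap])
  obtain ⟨j, hj, hj'⟩ := key
  set L := (H j.castSucc).comap π with hL
  haveI : L.Normal := (hn j.castSucc).comap π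
  set M := L ⊓ KA with hM
  haveI : M.Normal := Subgroup.normal_inf_normal L KA
  have hd : (M.map A.subtype).relIndex K ∣ (H j.castSucc).relIndex (H j.succ) := by
    rw [← hKmap, Subgroup.relIndex_map_map_of_injective _ _ A.subtype_injective, hM,
      Subgroup.inf_relIndex_right]
    have h2 : L.relIndex ((H j.succ).comap π) = (H j.castSucc).relIndex (H j.succ) := by
      rw [hL, Subgroup.relIndex_comap, Subgroup.map_comap_eq_self_of_surjective (QuotientGroup.mk'_surjective N)]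
    rw [← h2]
    have e : ∀ X : Subgroup A, L.relIndex X = Nat.card (X.map (QuotientGroup.mk' L)) := fun X => by
      rw [← Subgroup.relIndex_ker, QuotientGroup.ker_mk']
    rw [e, e]
    exact Subgroup.card_dvd_of_le (Subgroup.map_mono (inf_eq_right.mp hj'))
  refine ⟨M.map A.subtype, hK₀map ▸ Subgroup.map_mono (le_inf ?_ hNK), lt_of_le_of_ne ?_ ?_, ?_, ?_⟩
  · intro x hx
    show π x ∈ H j.castSucc
    rw [show π x = 1 from (QuotientGroup.eq_one_iff x).mpr hx]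
    exact one_mem _
  · exact (Subgroup.map_mono inf_le_right).trans hKmap.le
  · intro h
    rw [← hKmap] at h
    exact hj (Subgroup.map_injective A.subtype_injective h)
  · rintro γ hγ _ ⟨x, hx, rfl⟩
    exact ⟨⟨γ, hγ⟩ * x * ⟨γ, hγ⟩⁻¹, Subgroup.Normal.conj_mem ‹M.Normal› x hx _, rfl⟩
  · rcases hidx j with ⟨m, hm'⟩ | hc
    · obtain ⟨i, -, hi⟩ := (Nat.dvd_prime_pow (Fact.out : p.Prime)).1 (hm' ▸ hd)
      exact Or.inl ⟨i, hi⟩
    · exact Or.inr (hc.coprime_dvd_left hd)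

variable [Finite S] {F : FusionSystem S} {E : FusionSystem T} {G : FusionSystem W}
  {K' : Subgroup (MulAut T)}

/-- A normal subsystem is weakly normal in any saturated intermediate subsystem. -/
theorem weaklyNormal_of_le (hS : IsPGroup p S) (hE : E.IsWeaklyNormalIn F p) (hG : G.IsWeaklyNormalIn F p)
    (hTW : T ≤ W) (hEG : E.IsSubsystemOf G) : E.IsWeaklyNormalIn G p := by
  obtain ⟨hEs, -, hEi⟩ := hE
  obtain ⟨hGs, -, hGi⟩ := hG
  haveI := finite_of_le hGi.2.1.1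
  have hst := hEi.strongInvariance
  refine ⟨hEs, hGs, StrongInvariance.isInvariantIn hGs (hS.to_le hGi.2.1.1) ?_ hEG
    fun P Q hPQ hQ φ hφ hφQ ψ hψ => hst P Q hPQ hQ φ hφ hφQ ψ (hGi.1 Q hψ)⟩
  exact ⟨hTW, fun R hR φ hφ x => hEi.2.1.2 R hR φ (hGi.1 R hφ) x⟩

/-- The step of index prime to `p`. -/
theorem coprime_step (hS : IsPGroup p S) (hE : E.IsNormalIn F p) (hG : G.IsWeaklyNormalIn F p) (hTW : T ≤ W)
    (hEG : E.IsSubsystemOf G) (hK₀ : E.autGroup T ≤ K') (hK : K' ≤ G.autGroup T)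
    (hconj : ∀ γ ∈ F.autGroup T, ∀ x ∈ K', γ * x * γ⁻¹ ∈ K')
    (hcop : (K'.relIndex (G.autGroup T)).Coprime p) :
    ∃ G' : FusionSystem W, G'.IsWeaklyNormalIn F p ∧ E.IsSubsystemOf G' ∧ G'.autGroup T = K' ∧
      ∀ {U V : Subgroup Ω} (M : FusionSystem U) (L : FusionSystem V), M.IsResidualLimitOf G p →
        L.IsResidualLimitOf G' p → ∀ P, M.Hom P = L.Hom P := by
  obtain ⟨-, hF, hGi⟩ := id hG
  have hGs := hG.1
  have hWS : W ≤ S := hGi.2.1.1
  haveI := finite_of_le hWS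
  have hW : IsPGroup p W := hS.to_le hWS
  haveI := finite_of_le hTW
  haveI := finite_autGroup (F := G) hTW
  have hTF : F.StronglyClosed T := hE.1.2.2.2.1
  let N := K'.subgroupOf (G.autGroup T)
  haveI hNn : N.Normal := ⟨fun x hx g =>
    hconj _ (IsSubsystemOf.isIso_autGroup hGi.1 hTW g.2) _ hx⟩
  let χ : ↥(G.autGroup T) →* ↥(G.autGroup T) ⧸ N := QuotientGroup.mk' N
  have h : Setting G E χ p := ⟨inferInstance, Fact.out, hW, weaklyNormal_of_le hS hE.1 hG hTW hEG, inferInstance,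
    hcop, fun x hx => by rw [QuotientGroup.ker_mk']; exact hK₀ hx⟩
  have hχ : ∀ x, χ x = 1 ↔ (x : MulAut T) ∈ K' := fun x => QuotientGroup.eq_one_iff x
  set G' := PrimeIndexSub.residual (kerAut χ h.le) hW hGs with hG'def
  have hG's : G'.IsSaturated p := PrimeIndexSub.residual_isSaturated
  have hG'i : G'.HasPrimeToPIndexIn G p := PrimeIndexSub.residual_hasPrimeToPIndex
  have hG'n : G'.IsNormalIn G p := residual_isNormal h
  have hres : G.IsPPrimeResidual p (PrimeResidual.residual hW hGs) := PrimeResidual.residual_isPPrimeResidual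
  have hRn := Cfsg.Agent.S5141.result p hS F hF G hG _ hres
  have hRG' := hres.2.2 G' hG's hG'i
  have hst : ∀ (a : Ω → Ω) (P Q : Subgroup Ω) (f : Ω → Ω), F.IsIso W W a → G'.IsIso P Q f →
      ∀ P' Q' : Subgroup Ω, (∀ y, y ∈ P' ↔ ∃ x ∈ P, a x = y) → (∀ y, y ∈ Q' ↔ ∃ x ∈ Q, a x = y) →
        ∃ f', G'.IsIso P' Q' f' ∧ ∀ x ∈ P, f' (a x) = a (f x) := by
    intro a P Q f ha hf P' Q' hP' hQ'
    obtain ⟨φ, ⟨-, b, Q₀, f₀, hb, hf₀, hφe⟩, hφr, hφf⟩ := id hf
    have hWm : ∀ y, y ∈ W ↔ ∃ x ∈ W, a x = y := fun y => ⟨ha.surj, fun ⟨x, hx, he⟩ => he ▸ ha.mem hx⟩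
    obtain ⟨b', hb', hb'e⟩ := hGi.iso_transport ha le_rfl hb.isIso le_rfl le_rfl hWm hWm
    -- the value of `b'` on `T`
    obtain ⟨α, hαχ, hαe⟩ := tval_of_gen h hb
    obtain ⟨T₂, haT₂, -, hT₂⟩ := ha.restrict hTW
    have haT : F.IsIso T T a := haT₂.eq_of_le hTF.1 (hTF.iso_le haT₂ le_rfl) le_rfl ▸ haT₂
    obtain ⟨γ, hγ, hγe⟩ := haT.toAut
    have hmem := hconj γ hγ _ ((hχ α).mp hαχ)
    have hv : TVal χ b' 1 := by
      refine ⟨⟨γ * α * γ⁻¹, hK hmem⟩, (hχ _).mpr hmem, fun x => ?_⟩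
      show ((γ ((α : MulAut T) (γ⁻¹ x)) : T) : Ω) = b' x
      rw [hγe, hαe, ← hb'e _ (hTW (γ⁻¹ x).2), ← hγe, MulAut.apply_inv_self]
    have hgen := (gen_of_tval h hb' hv).mem_residual (hS := hW) (hF := hGs)
    -- the part in the residual
    obtain ⟨Q₁, -, -, hQ₁⟩ := ha.restrict hf₀.le_right
    obtain ⟨f₁, hf₁, hf₁e⟩ := hRn.1.2.2.iso_transport ha le_rfl
      (hf₀.mono PrimeResidual.core_le_residual) hf₀.le_left hf₀.le_right hP' hQ₁
    have hfx : ∀ x ∈ P, f x = b (f₀ x) := fun x hx => (hφf ⟨x, hx⟩).symm.trans (hφe ⟨x, hx⟩)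
    have hb'' : G'.IsIso Q₁ Q' b' := hgen.restrict' hf₁.le_right fun y => by
      constructor
      · intro hy
        obtain ⟨z, hz, rfl⟩ := (hQ' y).mp hy
        obtain ⟨x, hx, rfl⟩ := hf.surj hz
        exact ⟨a (f₀ x), (hQ₁ _).mpr ⟨_, hf₀.mem hx, rfl⟩, by
          rw [hb'e _ (hf₀.le_right (hf₀.mem hx)), hfx x hx]⟩
      · rintro ⟨z, hz, rfl⟩
        obtain ⟨w, hw, rfl⟩ := (hQ₁ z).mp hz
        obtain ⟨x, hx, rfl⟩ := hf₀.surj hw
        rw [hb'e _ (hf₀.le_right hw), ← hfx x hx]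
        exact (hQ' _).mpr ⟨_, hf.mem hx, rfl⟩
    refine ⟨_, (hf₁.mono hRG').comp hb'', fun x hx => ?_⟩
    show b' (f₁ (a x)) = a (f x)
    rw [hf₁e x hx, hb'e _ (hf₀.le_right (hf₀.mem hx)), hfx x hx]
  have hinv : G'.IsInvariantIn F := hGi.trans hF hS hG'n.1.2.2 (fun a ha x hx => ha.mem hx) hst
  refine ⟨G', ⟨hG's, hF, hinv⟩, subsystem_mem h, le_antisymm ?_ ?_, fun M L hM hL =>
    residualLimit_eq_of_primeIndex hW hGs hG's hG'n.1.2.2 hG'i hM hL⟩
  · -- the automiser is no larger than `K'`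
    have hTG : G.StronglyClosed T := h.closed
    let D : FusionSystem W :=
      { Hom := fun P => {φ | φ ∈ G.Hom P ∧ (T ≤ P → TVal χ (funOf φ) 1)}
        le_of_mem := fun hφ => G.le_of_mem hφ.1
        injective_of_mem := fun hφ => G.injective_of_mem hφ.1
        conj_mem := fun {P g} hP hg => ⟨G.conj_mem hP hg, fun hTP => (tval_conj h hg).congr fun x hx =>
          (funOf_apply (conjHom P g) ⟨x, hTP hx⟩).symm⟩
        comp_mem := by
          rintro P Q φ ψ ⟨hφ, hφv⟩ ⟨hψ, hψv⟩ hh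
          refine ⟨G.comp_mem hφ hψ hh, fun hTP => ?_⟩
          have h1 := hφv hTP
          have hTQ : T ≤ Q := fun y hy => by
            obtain ⟨x, hx, rfl⟩ := (h1.isIso h.le).surj hy
            rw [← funOf_apply φ ⟨x, hTP hx⟩]
            exact hh _
          refine (one_mul (1 : ↥(G.autGroup T) ⧸ N) ▸ h1.comp (hψv hTQ)).congr fun x hx => ?_
          refine (funOf_apply (ψ.comp (φ.codRestrict Q hh)) ⟨x, hTP hx⟩).symm.trans ?_
          show ψ ⟨φ ⟨x, hTP hx⟩, hh ⟨x, hTP hx⟩⟩ = funOf ψ (funOf φ x)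
          rw [← funOf_apply φ ⟨x, hTP hx⟩]
          exact funOf_apply ψ ⟨φ ⟨x, hTP hx⟩, hh ⟨x, hTP hx⟩⟩
        inv_mem := by
          rintro P φ ⟨hφ, hφv⟩
          obtain ⟨ψ, hψ, he⟩ := G.inv_mem hφ
          refine ⟨ψ, ⟨hψ, fun hT => ?_⟩, he⟩
          have hψi := isIso_funOf hψ
          obtain ⟨T₃, hT₃, hT₃le, -⟩ := hψi.restrict hT
          have hTP : T ≤ P := by
            rw [hT₃.eq_of_le h.le (hTG.iso_le hT₃ le_rfl) le_rfl] at hT₃le
            refine hT₃le.trans ?_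
            rintro _ ⟨⟨_, x, rfl⟩, rfl⟩
            rw [he x]
            exact x.2
          obtain ⟨a', ha', hl, hr⟩ := (hφv hTP).symm h.le
          rw [inv_one] at ha'
          refine ha'.congr fun y hy => ?_
          obtain ⟨x, hx, rfl⟩ := ((hφv hTP).isIso h.le).surj hy
          rw [hl x hx, ← funOf_apply φ ⟨x, hTP hx⟩]
          exact (funOf_apply ψ ⟨φ ⟨x, hTP hx⟩, ⟨x, hTP hx⟩, rfl⟩).symm.trans (he ⟨x, hTP hx⟩) }
    have hD : IsAmple G p D := by
      refine ⟨fun P φ hφ => hφ.1, fun P hP => ?_⟩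
      rw [Subgroup.map_le_iff_le_comap]
      refine (Subgroup.closure_le _).mpr fun a ha => ?_
      obtain ⟨k, hk⟩ := ha
      obtain ⟨f, ⟨hf, k', hk'⟩, hfe⟩ := isPAut_of_aut hP.1 a.2 ⟨k, by rw [Subgroup.orderOf_coe, hk]⟩
      obtain ⟨φ, hφ, -, hφe⟩ := id hf
      refine D.mem_autGroup_of_map (φ := φ) ⟨hφ, fun hTP => ?_⟩ fun x => (hfe x).trans (hφe x).symm
      obtain ⟨T₃, hT₃, -, -⟩ := hf.restrict hTP
      rw [hT₃.eq_of_le h.le (hTG.iso_le hT₃ le_rfl) le_rfl] at hT₃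
      obtain ⟨α, hα, hαe, i, hi⟩ :=
        IsPAut.toAut (E := G) (p := p) ⟨hT₃, k', fun x hx => hk' x (hTP hx)⟩
      refine ⟨⟨α, hα⟩, eq_one_of_pow_prime_pow h (k := i) ?_, fun x => ?_⟩
      · rw [← map_pow, ← map_one χ]
        exact congrArg χ (Subtype.ext (hi ▸ pow_orderOf_eq_one α))
      · rw [← funOf_apply φ ⟨x, hTP x.2⟩, hφe]
        exact hαe x
    intro α hα
    obtain ⟨φ, ⟨hφG, b, Q₀, f₀, hb, hf₀, hφe⟩, -, hφα⟩ := G'.exists_map_of_mem_autGroup hTW hα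
    obtain ⟨φ₀, hφ₀, -, hφ₀e⟩ := id hf₀
    have hv₀ : TVal χ f₀ 1 := ((isAmple_ampleCore D hD T hφ₀).2 le_rfl).congr fun x hx =>
      (hφ₀e ⟨x, hx⟩).symm.trans (funOf_apply φ₀ ⟨x, hx⟩)
    obtain ⟨β, hβ, hβe⟩ := hv₀.comp (tval_of_gen h hb)
    rw [one_mul] at hβ
    have e : (β : MulAut T) = α := MulEquiv.ext fun x => Subtype.ext
      ((hβe x).trans ((hφe x).symm.trans (hφα x)))
    exact e ▸ (hχ β).mp hβ
  · exact fun α hα => base_mem h (α := ⟨α, hK hα⟩) ((hχ _).mpr hα)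

/-- The elements of `W` acting on `T` as members of `K'`. -/
def actingSubgroup (W : Subgroup Ω) (K' : Subgroup (MulAut T)) : Subgroup Ω :=
  W ⊓ (K'.comap T.normalizerMonoidHom).map (Subgroup.normalizer (T : Set Ω)).subtype

theorem mem_actingSubgroup (hWn : W ≤ Subgroup.normalizer (T : Set Ω)) {w : Ω} :
    w ∈ actingSubgroup W K' ↔ w ∈ W ∧ ∃ α ∈ K', ∀ t : T, ((α t : T) : Ω) = w * t * w⁻¹ := by
  constructor
  · rintro ⟨hw, x, hx, rfl⟩
    exact ⟨hw, _, hx, fun t => rfl⟩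
  · rintro ⟨hw, α, hα, he⟩
    refine ⟨hw, ⟨w, hWn hw⟩, ?_, rfl⟩
    show T.normalizerMonoidHom ⟨w, hWn hw⟩ ∈ K'
    rw [show T.normalizerMonoidHom ⟨w, hWn hw⟩ = α from MulEquiv.ext fun t => Subtype.ext (he t).symm]
    exact hα

/-- The step of `p`-power index. -/
theorem pPower_step (hS : IsPGroup p S) (hE : E.IsNormalIn F p) (hG : G.IsWeaklyNormalIn F p)
    (hU : T ⊔ centralizerIn S T ≤ W) (hEG : E.IsSubsystemOf G) (hK₀ : E.autGroup T ≤ K')
    (hK : K' ≤ G.autGroup T) (hconj : ∀ γ ∈ F.autGroup T, ∀ x ∈ K', γ * x * γ⁻¹ ∈ K')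
    {m : ℕ} (hidx : K'.relIndex (G.autGroup T) = p ^ m) :
    ∃ (W' : Subgroup Ω) (G' : FusionSystem W'), T ⊔ centralizerIn S T ≤ W' ∧ G'.IsWeaklyNormalIn F p ∧
      E.IsSubsystemOf G' ∧ G'.autGroup T = K' ∧
      ∀ {U V : Subgroup Ω} (M : FusionSystem U) (L : FusionSystem V), M.IsResidualLimitOf G p →
        L.IsResidualLimitOf G' p → ∀ P, M.Hom P = L.Hom P := by
  obtain ⟨-, hF, hGi⟩ := id hG
  have hGs := hG.1
  have hWS : W ≤ S := hGi.2.1.1
  haveI := finite_of_le hWS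
  have hW : IsPGroup p W := hS.to_le hWS
  have hTW : T ≤ W := le_sup_left.trans hU
  haveI := finite_of_le hTW
  haveI := finite_autGroup (F := G) hTW
  have hTF : F.StronglyClosed T := hE.1.2.2.2.1
  have hTG : G.StronglyClosed T := (weaklyNormal_of_le hS hE.1 hG hTW hEG).2.2.2.1
  have hWn : W ≤ Subgroup.normalizer (T : Set Ω) := hWS.trans hTF.le_normalizer
  let N := K'.subgroupOf (G.autGroup T)
  haveI hNn : N.Normal := ⟨fun x hx g =>
    hconj _ (IsSubsystemOf.isIso_autGroup hGi.1 hTW g.2) _ hx⟩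
  have hOp : pResidual p ↥(G.autGroup T) ≤ N :=
    CfsgLib.Transfer.pResidual_le_of_isPGroup_quotient N (IsPGroup.of_card (n := m) hidx)
  have hinn : Inn T ≤ K' := (inn_le_autGroup le_rfl).trans hK₀
  set W' := actingSubgroup W K' with hW'def
  have hW'W : W' ≤ W := inf_le_left
  have hW'S : W' ≤ S := hW'W.trans hWS
  haveI := finite_of_le hW'W
  have hUW' : T ⊔ centralizerIn S T ≤ W' := by
    refine sup_le (fun t ht => ?_) fun c hc => ?_
    · exact (mem_actingSubgroup hWn).mpr ⟨hTW ht, MulAut.conj ⟨t, ht⟩, hinn ⟨⟨t, ht⟩, rfl⟩, fun x => rfl⟩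
    · refine (mem_actingSubgroup hWn).mpr ⟨hU (Subgroup.mem_sup_right hc), 1, K'.one_mem, fun x => ?_⟩
      show (x : Ω) = _
      rw [← Subgroup.mem_centralizer_iff.mp hc.2 x x.2, mul_inv_cancel_right]
  have hhyp : G.hyperfocalSubgroup p ≤ W' := by
    intro x hx
    obtain ⟨α, hα, he⟩ := hyperfocal_acts_residually hW hGs hTG hx
    refine (mem_actingSubgroup hWn).mpr ⟨hyperfocalSubgroup_le hx, α, ?_, he⟩
    exact (sup_le ((Subgroup.map_mono hOp).trans (Subgroup.map_comap_le _ _)) hinn :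
      _ ⊔ Inn ↥T ≤ K') hα
  -- stability under automorphisms of `W`
  have hW'stab : ∀ a, F.IsIso W W a → ∀ x ∈ W', a x ∈ W' := by
    intro a ha x hx
    obtain ⟨hxW, α, hα, hαe⟩ := (mem_actingSubgroup hWn).mp hx
    obtain ⟨T₂, haT, -, -⟩ := ha.restrict hTW
    rw [haT.eq_of_le hTF.1 (hTF.iso_le haT le_rfl) le_rfl] at haT
    obtain ⟨γ, hγ, hγe⟩ := haT.toAut
    refine (mem_actingSubgroup hWn).mpr ⟨ha.mem hxW, γ * α * γ⁻¹, hconj γ hγ α hα, fun t => ?_⟩
    show ((γ (α (γ⁻¹ t)) : T) : Ω) = _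
    rw [hγe, hαe, ha.apply_conj hxW (hTW (γ⁻¹ t).2), ← hγe, MulAut.apply_inv_self]
  have hW'n : (W'.subgroupOf W).Normal := by
    refine ⟨fun x hx g => ?_⟩
    show (g : Ω) * x * (g : Ω)⁻¹ ∈ W'
    refine hW'stab _ (isIso_conj_normalizer hWS (hWS g.2) ?_) _ hx
    exact Subgroup.le_normalizer g.2
  obtain ⟨G', hG', -⟩ := hGs.existsUnique_pPowerIndex hW hW'W hhyp
  have hG'n := hGs.isNormalIn_of_pPowerIndex hW hG'.1 hW'W hW'n hG'.2
  have hinv : G'.IsInvariantIn F := hGi.trans hF hS hG'n.1.2.2 hW'stab fun a P Q f ha hf P' Q' hP' hQ' =>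
    hGi.pPowerIndex_transport hS hG'.1 hG'.2 hW'W ha (hW'stab a ha) hf hP' hQ'
  have hTW' : T ≤ W' := le_sup_left.trans hUW'
  have hEG' : E.IsSubsystemOf G' :=
    hE.1.1.le_pPowerIndex (finite_of_le hTW) hW hEG hTW hTW' G' hG'.2
  haveI := finite_autGroup (F := G') hTW'
  have hpG' : (pResidual p ↥(G.autGroup T)).map (G.autGroup T).subtype ≤ G'.autGroup T := hG'.2.2.2 T hTW'
  refine ⟨W', G', hUW', ⟨hG'.1, hF, hinv⟩, hEG', le_antisymm ?_ ?_, fun M L hM hL =>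
    residualLimit_eq_of_pPowerIndex hW hGs hG'.1 hG'n.1.2.2.2.1 hG'.2 hM hL⟩
  · have hTG' : G'.StronglyClosed T := ⟨hTW', fun R hR φ hφ x => hTG.2 R hR φ (hG'.2.1 R hφ) x⟩
    obtain ⟨-, Sy, hSy⟩ := hG'.1.isFullyAutomized_of_isFullyNormalized (hW.to_le hW'W) hTG'.isFullyNormalized.1
    intro α hα
    have htop : (⟨α, hα⟩ : G'.autGroup T) ∈ (Sy : Subgroup (G'.autGroup T)) ⊔ pResidual p ↥(G'.autGroup T) := by
      rw [CfsgLib.Transfer.sylow_sup_pResidual Sy]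
      exact Subgroup.mem_top _
    refine (sup_le ?_ ?_ : (Sy : Subgroup (G'.autGroup T)) ⊔ pResidual p ↥(G'.autGroup T) ≤
      K'.subgroupOf (G'.autGroup T)) htop
    · intro x hx
      rw [hSy] at hx
      obtain ⟨w, hw, hwN, hwe⟩ := mem_autInducedBy_iff.mp (Subgroup.mem_subgroupOf.mp hx)
      obtain ⟨-, β, hβ, hβe⟩ := (mem_actingSubgroup hWn).mp hw
      show (x : MulAut T) ∈ K'
      rw [show (x : MulAut T) = β from MulEquiv.ext fun t => Subtype.ext ((hwe t).trans (hβe t).symm)]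
      exact hβ
    · refine (Subgroup.closure_le _).mpr fun x hx => ?_
      show (x : MulAut T) ∈ K'
      have hxG : (x : MulAut T) ∈ G.autGroup T := IsSubsystemOf.isIso_autGroup hG'.2.1 hTW' x.2
      exact hOp (x := ⟨(x : MulAut T), hxG⟩) (Subgroup.subset_closure (by
        show (orderOf (⟨(x : MulAut T), hxG⟩ : G.autGroup T)).Coprime p
        rw [(Subgroup.orderOf_coe ⟨(x : MulAut T), hxG⟩).symm.trans (Subgroup.orderOf_coe x)]
        exact hx))
  · obtain ⟨-, Sy, hSy⟩ := hGs.isFullyAutomized_of_isFullyNormalized hW hTG.isFullyNormalized.1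
    intro α hα
    haveI : (pResidual p ↥(G.autGroup T)).Normal := CfsgLib.PResidual.pResidual_normal
    have htop : (⟨α, hK hα⟩ : G.autGroup T) ∈ (Sy : Subgroup (G.autGroup T)) ⊔ pResidual p ↥(G.autGroup T) := by
      rw [CfsgLib.Transfer.sylow_sup_pResidual Sy]
      exact Subgroup.mem_top _
    obtain ⟨s, hs, o, ho, hso⟩ := Subgroup.mem_sup_of_normal_right.mp htop
    have hoK : (o : MulAut T) ∈ K' := hOp ho
    have he : (s : MulAut T) * o = α := congrArg Subtype.val hso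
    have hsK : (s : MulAut T) ∈ K' := by
      rw [eq_mul_inv_of_mul_eq he]
      exact K'.mul_mem hα (K'.inv_mem hoK)
    rw [hSy] at hs
    obtain ⟨w, hw, hwN, hwe⟩ := mem_autInducedBy_iff.mp (Subgroup.mem_subgroupOf.mp hs)
    rw [← he]
    refine Subgroup.mul_mem _ (autInducedBy_le_autGroup hTW' (mem_autInducedBy_iff.mpr ⟨w, ?_, hwN, hwe⟩))
      (hpG' ⟨o, ho, rfl⟩)
    exact (mem_actingSubgroup hWn).mpr ⟨hw, _, hsK, hwe⟩

end Cfsg.FusionSystem.ResidualReduction
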